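import Mathlib

/-! Regular sequences generating the same ideal are linked by elementary steps. -/

universe u

namespace RegChainLib

open RingTheory.Sequence IsLocalRing

variable {A : Type u} [CommRing A]

lemma smul_top_eq (J : Ideal A) : (J • ⊤ : Submodule A A) = J := by
  rw [smul_eq_mul, Ideal.mul_top]

lemma ofList_perm {l l' : List A} (h : l.Perm l') : Ideal.ofList l = Ideal.ofList l' :=
  congrArg Ideal.span (Set.ext fun _ => h.mem_iff)

lemma notMem_span {l : List A} {a : A} (h : IsRegular A (l ++ [a])) : a ∉ Ideal.ofList l := by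
  intro ha
  have h1 := ((isWeaklyRegular_append_iff A l [a]).1 h.toIsWeaklyRegular).2
  rw [isWeaklyRegular_singleton_iff] at h1
  refine h.top_ne_smul (Eq.symm ?_)
  rw [Ideal.ofList_append, Ideal.ofList_singleton, smul_top_eq, sup_of_le_left
    ((Ideal.span_singleton_le_iff_mem _).2 ha)]
  rw [Ideal.eq_top_iff_one]
  have hz : a • (Submodule.Quotient.mk 1 : A ⧸ (Ideal.ofList l • ⊤ : Submodule A A)) = 0 := by
    rw [← Submodule.Quotient.mk_smul, Submodule.Quotient.mk_eq_zero, smul_top_eq]
    simpa using ha
  have := h1.right_eq_zero_of_smul hz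
  rwa [Submodule.Quotient.mk_eq_zero, smul_top_eq] at this

lemma regular_change {l : List A} {a b c : A} (h : IsRegular A (l ++ [a])) (hc : IsUnit c)
    (hb : b - c * a ∈ Ideal.ofList l) :
    IsRegular A (l ++ [b]) ∧ Ideal.ofList (l ++ [b]) = Ideal.ofList (l ++ [a]) := by
  have hspan : Ideal.ofList (l ++ [b]) = Ideal.ofList (l ++ [a]) := by
    rw [Ideal.ofList_append, Ideal.ofList_append, Ideal.ofList_singleton, Ideal.ofList_singleton]
    refine le_antisymm (sup_le le_sup_left ((Ideal.span_singleton_le_iff_mem _).2 ?_))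
      (sup_le le_sup_left ((Ideal.span_singleton_le_iff_mem _).2 ?_))
    · have := add_mem (Ideal.mem_sup_left (T := Ideal.span {a}) hb)
        (Ideal.mem_sup_right (Ideal.mul_mem_left _ c (Ideal.mem_span_singleton_self a)))
      simpa using this
    · refine (Ideal.unit_mul_mem_iff_mem _ hc).1 ?_
      have := sub_mem (Ideal.mem_sup_right (Ideal.mem_span_singleton_self b))
        (Ideal.mem_sup_left (T := Ideal.span {b}) hb)
      simpa using this
  refine ⟨⟨?_, by rw [hspan]; exact h.top_ne_smul⟩, hspan⟩
  obtain ⟨h1, h2⟩ := (isWeaklyRegular_append_iff A l [a]).1 h.toIsWeaklyRegular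
  refine (isWeaklyRegular_append_iff A l [b]).2 ⟨h1, ?_⟩
  rw [isWeaklyRegular_singleton_iff] at h2 ⊢
  intro x y hxy
  apply h2
  obtain ⟨u, rfl⟩ := hc
  have key : ∀ z : A ⧸ (Ideal.ofList l • ⊤ : Submodule A A), b • z = (u : A) • a • z := by
    intro z
    obtain ⟨z, rfl⟩ := Submodule.Quotient.mk_surjective _ z
    rw [← Submodule.Quotient.mk_smul, ← Submodule.Quotient.mk_smul, ← Submodule.Quotient.mk_smul,
      Submodule.Quotient.eq, smul_top_eq]
    convert Ideal.mul_mem_right z _ hb using 1
    simp only [smul_eq_mul]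
    ring
  simp only [key] at hxy
  exact u.isUnit.smul_left_cancel.1 hxy

lemma mem_maximal_or_exists_unit [IsLocalRing A] : ∀ (l : List A) (x : A), x ∈ Ideal.ofList l →
    x ∈ maximalIdeal A * Ideal.ofList l ∨
      ∃ l₁ a l₂ c, l = l₁ ++ a :: l₂ ∧ IsUnit c ∧ x - c * a ∈ Ideal.ofList (l₁ ++ l₂)
  | [], x, hx => by
      left
      rw [Ideal.ofList_nil] at hx ⊢
      rw [Ideal.mem_bot.1 hx]
      exact zero_mem _
  | a :: l, x, hx => by
      rw [Ideal.ofList_cons, Submodule.mem_sup] at hx
      obtain ⟨s, hs, y, hy, rfl⟩ := hx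
      obtain ⟨c, rfl⟩ := Ideal.mem_span_singleton'.1 hs
      by_cases hc : IsUnit c
      · exact Or.inr ⟨[], a, l, c, rfl, hc, by simpa using hy⟩
      rcases mem_maximal_or_exists_unit l y hy with h | ⟨l₁, b, l₂, c', rfl, hc', h⟩
      · left
        refine add_mem (Ideal.mul_mem_mul hc ?_) (Ideal.mul_mono_right ?_ h)
        · exact Ideal.subset_span List.mem_cons_self
        · exact Ideal.span_mono fun z hz => List.mem_cons_of_mem _ hz
      · refine Or.inr ⟨a :: l₁, b, l₂, c', rfl, hc', ?_⟩
        rw [List.cons_append, Ideal.ofList_cons, add_sub_assoc]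
        exact add_mem (Ideal.mem_sup_left hs) (Ideal.mem_sup_right h)

/-- One elementary step. -/
def Step (w w' : List A) : Prop :=
  w.Perm w' ∨ (w.length = w'.length ∧ w.dropLast = w'.dropLast)

/-- The sequences allowed. -/
def Good (I : Ideal A) (w : List A) : Prop := IsRegular A w ∧ Ideal.ofList w = I

variable [IsLocalRing A] [IsNoetherianRing A]

lemma good_perm {I : Ideal A} {w w' : List A} (h : Good I w) (hp : w.Perm w') : Good I w' :=
  ⟨IsLocalRing.isRegular_of_perm h.1 hp, (ofList_perm hp.symm).trans h.2⟩

lemma notMem_span_erase {I : Ideal A} {pre post : List A} {x : A} (h : Good I (pre ++ x :: post)) :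
    x ∉ Ideal.ofList (pre ++ post) :=
  notMem_span (good_perm h (List.perm_middle.trans (List.perm_append_singleton _ _).symm)).1

theorem reflTransGen {I : Ideal A} : ∀ (post pre rest : List A),
    Good I (pre ++ post) → Good I (pre ++ rest) →
    Relation.ReflTransGen (fun w w' => Step w w' ∧ Good I w') (pre ++ rest) (pre ++ post)
  | [], pre, rest, hv, hw => by
      obtain _ | ⟨r, rest⟩ := rest
      · exact Relation.ReflTransGen.refl
      exfalso
      apply notMem_span_erase hw
      have h1 : r ∈ Ideal.ofList (pre ++ ([] : List A)) := by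
        rw [hv.2, ← hw.2]; exact Ideal.subset_span (List.mem_append_right _ List.mem_cons_self)
      exact Ideal.span_mono (fun z hz => List.mem_append_left _ (by simpa using hz)) h1
  | x :: post, pre, rest, hv, hw => by
      have hx : x ∈ Ideal.ofList pre ⊔ Ideal.ofList rest := by
        rw [← Ideal.ofList_append, hw.2, ← hv.2]
        exact Ideal.subset_span (List.mem_append_right _ List.mem_cons_self)
      obtain ⟨p, hp, r, hr, rfl⟩ := Submodule.mem_sup.1 hx
      rcases mem_maximal_or_exists_unit rest r hr with h | ⟨l₁, a, l₂, c, rfl, hc, h⟩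
      · exfalso
        apply notMem_span_erase hv
        have hle : maximalIdeal A * Ideal.ofList rest ≤
            Ideal.ofList (pre ++ post) ⊔ maximalIdeal A * Ideal.span {p + r} := by
          have h1 : Ideal.ofList rest ≤ Ideal.ofList (pre ++ post) ⊔ Ideal.span {p + r} := by
            have h2 : Ideal.ofList rest ≤ I := by
              rw [← hw.2, Ideal.ofList_append]; exact le_sup_right
            rw [← hv.2, Ideal.ofList_append, Ideal.ofList_cons] at h2
            rw [Ideal.ofList_append]
            exact h2.trans (sup_le (le_sup_left.trans le_sup_left)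
              (sup_le le_sup_right (le_sup_right.trans le_sup_left)))
          refine (Ideal.mul_mono_right h1).trans ?_
          rw [Ideal.mul_sup]
          exact sup_le_sup_right Ideal.mul_le_right _
        obtain ⟨o, ho, m, hm, hom⟩ := Submodule.mem_sup.1 (hle h)
        obtain ⟨t, ht, htm⟩ := Ideal.mem_mul_span_singleton.1 hm
        have hu : IsUnit (1 - t) := IsLocalRing.isUnit_one_sub_self_of_mem_nonunits _ ht
        refine (Ideal.unit_mul_mem_iff_mem _ hu).1 ?_
        have hp' : p ∈ Ideal.ofList (pre ++ post) := by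
          rw [Ideal.ofList_append]; exact Ideal.mem_sup_left hp
        convert add_mem hp' ho using 1
        linear_combination (-1 : A) * htm - hom
      · have hp1 : (pre ++ (l₁ ++ a :: l₂)).Perm ((pre ++ (l₁ ++ l₂)) ++ [a]) := by
          refine (List.Perm.append_left pre (List.perm_middle.trans (List.perm_append_singleton _ _).symm)).trans ?_
          rw [List.append_assoc pre]
        have g1 := good_perm hw hp1
        obtain ⟨g2, g2'⟩ := regular_change (b := p + r) g1.1 hc (by
          rw [Ideal.ofList_append, add_sub_assoc]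
          exact add_mem (Ideal.mem_sup_left hp) (Ideal.mem_sup_right h))
        have g2 : Good I ((pre ++ (l₁ ++ l₂)) ++ [p + r]) := ⟨g2, g2'.trans g1.2⟩
        have hp2 : ((pre ++ (l₁ ++ l₂)) ++ [p + r]).Perm ((pre ++ [p + r]) ++ (l₁ ++ l₂)) := by
          rw [List.append_assoc pre, List.append_assoc pre]
          exact List.perm_append_comm.append_left pre
        have g3 := good_perm g2 hp2
        have e : pre ++ (p + r) :: post = (pre ++ [p + r]) ++ post := by simp
        rw [e] at hv ⊢
        refine Relation.ReflTransGen.head ⟨Or.inl hp1, g1⟩ (.head ⟨Or.inr ⟨by simp, by simp⟩, g2⟩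
          (.head ⟨Or.inl hp2, g3⟩ ?_))
        exact reflTransGen post _ _ hv g3

theorem exists_chain {I : Ideal A} {u v : List A} (hu : Good I u) (hv : Good I v) :
    ∃ ws : List (List A), ws.head? = some u ∧ ws.getLast? = some v ∧ (∀ w ∈ ws, Good I w) ∧
      List.IsChain Step ws := by
  have h := reflTransGen v [] u (by simpa using hv) (by simpa using hu)
  simp only [List.nil_append] at h
  clear hv
  induction h using Relation.ReflTransGen.head_induction_on with
  | refl => exact ⟨[v], rfl, rfl, by simpa using hu, List.IsChain.singleton _⟩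
  | @head b c hbc _ ih =>
    obtain ⟨ws, h1, h2, h3, h4⟩ := ih hbc.2
    obtain _ | ⟨d, ws⟩ := ws
    · simp at h1
    obtain rfl : d = c := by simpa using h1
    refine ⟨b :: d :: ws, rfl, by rwa [List.getLast?_cons_cons],
      List.forall_mem_cons.2 ⟨hu, h3⟩, .cons_cons hbc.1 h4⟩

end RegChainLib
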